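import Mathlib.LinearAlgebra.Eigenspace.Zero
import Mathlib.LinearAlgebra.Charpoly.Basic
import Mathlib.RingTheory.Spectrum.Prime.Basic
import Mathlib.RingTheory.TensorProduct.Basic
import Mathlib.Algebra.CharP.Lemmas
import Mathlib.LinearAlgebra.Dimension.Constructions
import Mathlib.Algebra.CharP.Algebra
import Mathlib.RingTheory.TensorProduct.Finite

/-!
A field extension whose tensor square is local and small is purely inseparable of bounded exponent.
-/

universe u

open TensorProduct

namespace Groth.Agent.H98ConnTors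

variable (K L A : Type u) [Field K] [Field L] [Algebra K L] [CommRing A] [Algebra K A]

/-- The main algebra lemma. -/
theorem pow_mem_range [Module.Finite K A] (p : ℕ) [hp : Fact p.Prime] [CharP K p]
    (ψ : L ⊗[K] A →+* L ⊗[K] L) (hψ : Function.Surjective ψ)
    (hψl : ∀ l : L, ψ (l ⊗ₜ 1) = 1 ⊗ₜ l)
    [Subsingleton (PrimeSpectrum (L ⊗[K] L))] (a : L) :
    a ^ p ^ Module.finrank K A ∈ (algebraMap K L).range := by
  let ψ' : L ⊗[K] A →+* L ⊗[K] L := (Algebra.TensorProduct.comm K L L).toRingHom.comp ψ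
  have hψ's : Function.Surjective ψ' := (Algebra.TensorProduct.comm K L L).surjective.comp hψ
  let Ψ : L ⊗[K] A →ₐ[L] L ⊗[K] L :=
    { ψ' with
      commutes' := fun l => by
        change (Algebra.TensorProduct.comm K L L) (ψ (l ⊗ₜ 1)) = l ⊗ₜ 1
        rw [hψl, Algebra.TensorProduct.comm_tmul] }
  have : Module.Finite L (L ⊗[K] L) := Module.Finite.of_surjective Ψ.toLinearMap hψ's
  have hdim : Module.finrank L (L ⊗[K] L) ≤ Module.finrank K A := by
    have h := Ψ.toLinearMap.finrank_range_le
    rw [LinearMap.range_eq_top.2 hψ's, finrank_top] at h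
    exact h.trans_eq Module.finrank_baseChange
  set z : L ⊗[K] L := a ⊗ₜ 1 - 1 ⊗ₜ a with hz
  have hnil : IsNilpotent z := by
    rw [← mem_nilradical, nilradical_eq_sInf]
    rw [Submodule.mem_sInf]
    intro P hP
    have hP' : (⟨P, hP⟩ : PrimeSpectrum (L ⊗[K] L)) =
        ⟨RingHom.ker (Algebra.TensorProduct.lmul' K (S := L)), RingHom.ker_isPrime _⟩ :=
      Subsingleton.elim _ _
    rw [show P = _ from congrArg PrimeSpectrum.asIdeal hP', RingHom.mem_ker, hz]
    simp
  have hz0 : z ^ p ^ Module.finrank K A = 0 := by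
    have h1 : (LinearMap.mulLeft L z) ^ Module.finrank L (L ⊗[K] L) = 0 := by
      have hn : IsNilpotent (LinearMap.mulLeft L z) := by
        obtain ⟨n, hn⟩ := hnil
        exact ⟨n, by rw [LinearMap.pow_mulLeft, hn, LinearMap.mulLeft_zero_eq_zero]⟩
      have h2 := (LinearMap.mulLeft L z).aeval_self_charpoly
      rw [hn.charpoly_eq_X_pow_finrank, Polynomial.aeval_X_pow] at h2
      exact h2
    rw [LinearMap.pow_mulLeft] at h1
    have h3 : z ^ Module.finrank L (L ⊗[K] L) = 0 := by
      have := LinearMap.congr_fun h1 1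
      simpa using this
    exact pow_eq_zero_of_le (hdim.trans (Nat.lt_pow_self hp.out.one_lt).le) h3
  have : Nontrivial (L ⊗[K] L) := (Algebra.TensorProduct.lmul' K (S := L)).toRingHom.domain_nontrivial
  have : CharP (L ⊗[K] L) p :=
    charP_of_injective_ringHom (algebraMap K (L ⊗[K] L)).injective p
  rw [hz, sub_pow_char_pow, sub_eq_zero, Algebra.TensorProduct.tmul_pow, Algebra.TensorProduct.tmul_pow,
    one_pow] at hz0
  set b := a ^ p ^ Module.finrank K A
  obtain ⟨ℓ, hℓ⟩ : ∃ ℓ : L →ₗ[K] K, ℓ 1 = 1 := by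
    obtain ⟨ℓ, hℓ⟩ := (Algebra.linearMap K L).exists_leftInverse_of_injective
      (LinearMap.ker_eq_bot.2 (algebraMap K L).injective)
    exact ⟨ℓ, by simpa using LinearMap.congr_fun hℓ 1⟩
  have h := congrArg (fun t => TensorProduct.rid K L (LinearMap.lTensor L ℓ t)) hz0
  simp [hℓ] at h
  exact ⟨ℓ b, by rw [Algebra.algebraMap_eq_smul_one]; exact h.symm⟩

end Groth.Agent.H98ConnTors
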