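import Groth.Prelude.Def_NonAbH2
import Groth.Agent.AlgGrp79.Pullback
import Mathlib.AlgebraicGeometry.Morphisms.UniversallyInjective
import Mathlib.AlgebraicGeometry.Morphisms.Finite
import Mathlib.FieldTheory.Perfect
import Mathlib.FieldTheory.PurelyInseparable.Basic

/-!
Torsors under finite connected group schemes over a perfect field have rational points.
-/

universe u

open CategoryTheory CategoryTheory.Limits MonoidalCategory CartesianMonoidalCategory MonObj GrpObj AlgebraicGeometry

namespace Groth.Agent.H98ConnTors

set_option maxHeartbeats 400000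
set_option backward.isDefEq.respectTransparency.types false

theorem residueFieldMap_surjective_of_section {S Y : Scheme.{u}} (t : S ⟶ Y) (g : Y ⟶ S)
    (h : t ≫ g = 𝟙 S) (s : S) : Function.Surjective (g.residueFieldMap (t s)).hom := by
  intro a
  have h2 : IsIso ((t ≫ g).residueFieldMap s) := by
    rw [Scheme.Hom.residueFieldMap_congr h, Scheme.residueFieldMap_id]
    exact IsIso.comp_isIso' inferInstance (IsIso.id _)
  rw [Scheme.residueFieldMap_comp t g s] at h2
  obtain ⟨b, hb⟩ := (@ConcreteCategory.bijective_of_isIso _ _ _ _ _ _ _ _
    (g.residueFieldMap (t s) ≫ t.residueFieldMap s) h2).2 (t.residueFieldMap s a)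
  exact ⟨b, (t.residueFieldMap s).hom.injective hb⟩

variable {K : Type u} [Field K] {G X : Over (Spec (CommRingCat.of K))} [GrpObj G]

omit [GrpObj G] in
theorem subsingleton_of_finite_connected [IsFinite G.hom] [ConnectedSpace G.left] :
    Subsingleton G.left := by
  have : Finite G.left := by
    refine Set.finite_univ_iff.1 ?_
    have h := IsFinite.finite_preimage_singleton G.hom (IsLocalRing.closedPoint K)
    refine h.subset fun x _ => ?_
    exact Subsingleton.elim (α := Spec (CommRingCat.of K)) _ _
  have : JacobsonSpace G.left := LocallyOfFiniteType.jacobsonSpace G.hom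
  have : DiscreteTopology G.left := inferInstance
  exact PreconnectedSpace.trivial_of_discrete

/-- A finite connected group scheme is universally injective over the field. -/
theorem universallyInjective_hom [IsFinite G.hom] [ConnectedSpace G.left] :
    UniversallyInjective G.hom := by
  have hsub := subsingleton_of_finite_connected (G := G)
  rw [UniversallyInjective.iff_diagonal]
  -- the two projections of a point are the unit section
  have h := (tfae_universallyInjective G.hom).out 3 2
  rw [h]
  refine ⟨fun x y _ => Subsingleton.elim x y, fun x => ?_⟩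
  have hx : x = η[G].left (IsLocalRing.closedPoint K) := Subsingleton.elim _ _
  subst hx
  have hs : (η[G].left ≫ G.hom) = 𝟙 (Spec (CommRingCat.of K)) := Over.w η[G]
  have hb : Function.Surjective (G.hom.residueFieldMap (η[G].left (IsLocalRing.closedPoint K))).hom :=
    residueFieldMap_surjective_of_section η[G].left G.hom hs (IsLocalRing.closedPoint K)
  algebraize [(G.hom.residueFieldMap (η[G].left (IsLocalRing.closedPoint K))).hom]
  exact AlgEquiv.isPurelyInseparable (AlgEquiv.ofBijective (Algebra.ofId _ _) ⟨RingHom.injective _, hb⟩)

/-- A torsor under a universally injective group is universally injective. -/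
theorem universallyInjective_torsor [UniversallyInjective G.hom] (a : AlgGrp.Action G X)
    (h : NonAbH1.IsPseudoTorsorSch a) : UniversallyInjective X.hom := by
  have : IsIso (lift a.act (CartesianMonoidalCategory.snd G X)) := h
  have h0 : IsPullback (fst G X).left (snd G X).left G.hom X.hom :=
    (IsPullback.of_hasPullback G.hom X.hom)
  have h1 : UniversallyInjective (snd G X).left :=
    MorphismProperty.of_isPullback h0 ‹UniversallyInjective G.hom›
  have h2 : UniversallyInjective (pullback.snd X.hom X.hom) := by
    have e : (lift a.act (snd G X)).left ≫ pullback.snd X.hom X.hom = (snd G X).left :=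
      (congrArg (fun t => t.left) (lift_snd a.act (snd G X)))
    have : IsIso (lift a.act (snd G X)).left :=
      inferInstanceAs (IsIso ((Over.forget _).map (lift a.act (snd G X))))
    have h3 : pullback.snd X.hom X.hom = inv (lift a.act (snd G X)).left ≫ (snd G X).left := by
      rw [← e, IsIso.inv_hom_id_assoc]
    rw [h3]
    exact (MorphismProperty.cancel_left_of_respectsIso @UniversallyInjective _ _).2 h1
  rw [UniversallyInjective.iff_diagonal]
  refine ⟨fun z => ⟨pullback.snd X.hom X.hom z, (pullback.snd X.hom X.hom).injective ?_⟩⟩
  rw [← Scheme.Hom.comp_apply, pullback.diagonal_snd]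
  simp

omit [GrpObj G] in
theorem exists_section [PerfectField K] [UniversallyInjective X.hom] (x : X.left) :
    ∃ s : Spec (CommRingCat.of K) ⟶ X.left, s ≫ X.hom = 𝟙 _ := by
  let t := X.hom x
  let q := (Spec (CommRingCat.of K)).fromSpecResidueField t
  have : Surjective q := ⟨fun y => by
    obtain ⟨z, -⟩ : ∃ z, q z = t := ⟨IsLocalRing.closedPoint _, Scheme.fromSpecResidueField_apply _ _⟩
    exact ⟨z, Subsingleton.elim (α := Spec (CommRingCat.of K)) _ _⟩⟩
  have : IsClosedImmersion q := IsClosedImmersion.of_isPreimmersion q
    (by rw [q.surjective.range_eq]; exact isClosed_univ)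
  have hqi : IsIso q := isIso_of_isClosedImmersion_of_surjective q
  let e : CommRingCat.of K ≅ (Spec (CommRingCat.of K)).residueField t :=
    (Spec.fullyFaithful.preimageIso (@asIso _ _ _ _ q hqi)).unop
  have : PerfectField ((Spec (CommRingCat.of K)).residueField t) :=
    PerfectField.of_ringEquiv e.commRingCatIsoToRingEquiv
  have hui : UniversallyInjective X.hom := inferInstance
  replace hui : Function.Injective X.hom ∧ ∀ x, (X.hom.residueFieldMap x).hom.IsPurelyInseparable :=
    ((tfae_universallyInjective X.hom).out 0 2 rfl rfl).1 hui
  have hpi := hui.2 x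
  algebraize [(X.hom.residueFieldMap x).hom]
  have hb : Function.Bijective (X.hom.residueFieldMap x) := by
    exact IsPurelyInseparable.bijective_algebraMap_of_isSeparable
      ((Spec (CommRingCat.of K)).residueField t) (X.left.residueField x)
  have : IsIso (X.hom.residueFieldMap x) := (ConcreteCategory.isIso_iff_bijective _).2 hb
  refine ⟨inv q ≫ inv (Spec.map (X.hom.residueFieldMap x)) ≫ X.left.fromSpecResidueField x, ?_⟩
  rw [Category.assoc, Category.assoc, ← Scheme.Hom.SpecMap_residueFieldMap_fromSpecResidueField]
  simp [q, t]

end Groth.Agent.H98ConnTors
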