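import Groth.Agent.H98ConnTors.Basic
import Mathlib.AlgebraicGeometry.Morphisms.Etale

/-!
A universally injective scheme over a field with a point with values in an étale scheme has a rational point.
-/

universe u

open CategoryTheory CategoryTheory.Limits AlgebraicGeometry

namespace Groth.Agent.H98ConnTors

set_option maxHeartbeats 400000
set_option backward.isDefEq.respectTransparency.types false

theorem exists_section_of_etale_point {K : Type u} [Field K] {X : Over (Spec (CommRingCat.of K))}
    [hX : UniversallyInjective X.hom] {Y : Scheme.{u}} (g : Y ⟶ Spec (CommRingCat.of K)) [Etale g]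
    (s : Y ⟶ X.left) (hs : s ≫ X.hom = g) (y : Y) :
    ∃ t : Spec (CommRingCat.of K) ⟶ X.left, t ≫ X.hom = 𝟙 _ := by
  subst hs
  let q := (Spec (CommRingCat.of K)).fromSpecResidueField (X.hom (s y))
  have : Surjective q := ⟨fun z => ⟨IsLocalRing.closedPoint _, Subsingleton.elim (α := Spec (CommRingCat.of K)) _ _⟩⟩
  have : IsClosedImmersion q := IsClosedImmersion.of_isPreimmersion q
    (by rw [q.surjective.range_eq]; exact isClosed_univ)
  have hqi : IsIso q := isIso_of_isClosedImmersion_of_surjective q
  have hpi := (((tfae_universallyInjective X.hom).out 0 2 rfl rfl :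
    UniversallyInjective X.hom ↔ Function.Injective X.hom ∧
      ∀ x, (X.hom.residueFieldMap x).hom.IsPurelyInseparable).1 hX).2 (s y)
  algebraize [(X.hom.residueFieldMap (s y)).hom, (s.residueFieldMap y).hom]
  let _ : Algebra ((Spec (CommRingCat.of K)).residueField (X.hom (s y))) (Y.residueField y) :=
    ((s ≫ X.hom).residueFieldMap y).hom.toAlgebra
  have : IsScalarTower ((Spec (CommRingCat.of K)).residueField (X.hom (s y))) (X.left.residueField (s y))
      (Y.residueField y) := IsScalarTower.of_algebraMap_eq'
    (congrArg CommRingCat.Hom.hom (Scheme.residueFieldMap_comp s X.hom y))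
  have : Algebra.IsSeparable ((Spec (CommRingCat.of K)).residueField (X.hom (s y))) (Y.residueField y) := by
    letI : Algebra ((Spec (CommRingCat.of K)).residueField ((s ≫ X.hom).base y)) (Y.residueField y) :=
      ((s ≫ X.hom).residueFieldMap y).hom.toAlgebra
    have h : Algebra.IsSeparable ((Spec (CommRingCat.of K)).residueField ((s ≫ X.hom).base y)) (Y.residueField y) :=
      inferInstance
    exact h
  have : Algebra.IsSeparable ((Spec (CommRingCat.of K)).residueField (X.hom (s y))) (X.left.residueField (s y)) :=
    Algebra.isSeparable_tower_bot_of_isSeparable _ _ (Y.residueField y)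
  have hb : Function.Bijective (X.hom.residueFieldMap (s y)) :=
    IsPurelyInseparable.bijective_algebraMap_of_isSeparable
      ((Spec (CommRingCat.of K)).residueField (X.hom (s y))) (X.left.residueField (s y))
  have : IsIso (X.hom.residueFieldMap (s y)) := (ConcreteCategory.isIso_iff_bijective _).2 hb
  refine ⟨inv q ≫ inv (Spec.map (X.hom.residueFieldMap (s y))) ≫ X.left.fromSpecResidueField (s y), ?_⟩
  rw [Category.assoc, Category.assoc, ← Scheme.Hom.SpecMap_residueFieldMap_fromSpecResidueField]
  simp [q]

end Groth.Agent.H98ConnTors
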