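import Groth.Agent.H98ConnTors.Basic
import Groth.Agent.H98ConnTors.Algebra
import Mathlib.FieldTheory.IsPerfectClosure
import Mathlib.AlgebraicGeometry.Pullbacks

/-!
Torsors under finite connected group schemes are split by a fixed power of Frobenius.
-/

universe u

open CategoryTheory CategoryTheory.Limits MonoidalCategory CartesianMonoidalCategory MonObj GrpObj AlgebraicGeometry TensorProduct

namespace Groth.Agent.H98ConnTors

set_option maxHeartbeats 800000
set_option backward.isDefEq.respectTransparency.types false

theorem surjective_preimage {R S : CommRingCat.{u}} (h : Spec S ⟶ Spec R) [IsClosedImmersion h] :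
    Function.Surjective (Spec.preimage h).hom := by
  obtain ⟨-, h2⟩ := IsClosedImmersion.isAffine_surjective_of_isAffine h
  have e : Spec.preimage h ≫ (Scheme.ΓSpecIso S).inv = (Scheme.ΓSpecIso R).inv ≫ h.appTop := by
    rw [Scheme.ΓSpecIso_inv_naturality, Spec.map_preimage]
  intro s
  obtain ⟨r', hr⟩ := h2 ((Scheme.ΓSpecIso S).inv s)
  refine ⟨(Scheme.ΓSpecIso R).hom r', (ConcreteCategory.bijective_of_isIso (Scheme.ΓSpecIso S).inv).1 ?_⟩
  have h3 := ConcreteCategory.congr_hom e ((Scheme.ΓSpecIso R).hom r')
  simp only [CommRingCat.comp_apply, Iso.hom_inv_id_apply] at h3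
  exact h3.trans hr

/-- The key bound. -/
theorem pow_mem_range_of_torsor {K : Type u} [Field K] (p : ℕ) [Fact p.Prime] [CharP K p]
    {G X : Over (Spec (CommRingCat.of K))} [GrpObj G] (A : Type u) [CommRing A] [Algebra K A]
    [Module.Finite K A] (eA : G.left ≅ Spec (CommRingCat.of A))
    (heA : eA.hom ≫ Spec.map (CommRingCat.ofHom (algebraMap K A)) = G.hom)
    (a : AlgGrp.Action G X) (hps : NonAbH1.IsPseudoTorsorSch a) [UniversallyInjective X.hom]
    (L : Type u) [Field L] [Algebra K L] (x : Spec (CommRingCat.of L) ⟶ X.left) [IsClosedImmersion x]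
    (hx : x ≫ X.hom = Spec.map (CommRingCat.ofHom (algebraMap K L))) (b : L) :
    b ^ p ^ Module.finrank K A ∈ (algebraMap K L).range := by
  set f := Spec.map (CommRingCat.ofHom (algebraMap K L)) with hf
  set g := Spec.map (CommRingCat.ofHom (algebraMap K A)) with hg
  have : IsIso (lift a.act (CartesianMonoidalCategory.snd G X)) := hps
  let Φ : (G ⊗ X).left ⟶ pullback X.hom X.hom := (lift a.act (snd G X)).left
  have : IsIso Φ := inferInstanceAs (IsIso ((Over.forget _).map (lift a.act (snd G X))))
  have hΦ : inv Φ ≫ (snd G X).left = pullback.snd X.hom X.hom := by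
    rw [IsIso.inv_comp_eq]
    exact (congrArg (fun t => t.left) (lift_snd a.act (snd G X))).symm
  have hm : IsClosedImmersion (pullback.map f f X.hom X.hom x x (𝟙 _) (by simp [hx]) (by simp [hx])) :=
    MorphismProperty.pullbackMap (P := @IsClosedImmersion) ‹_› ‹_› hx.symm hx.symm
  set m := pullback.map f f X.hom X.hom x x (𝟙 _) (by simp [hx]) (by simp [hx])
  let m₂ : pullback f f ⟶ pullback G.hom X.hom := m ≫ inv Φ
  have hm₂ : m₂ ≫ pullback.snd G.hom X.hom = pullback.snd f f ≫ x := by
    change (m ≫ inv Φ) ≫ (snd G X).left = _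
    rw [Category.assoc, hΦ]
    exact pullback.lift_snd _ _ _
  have hc : pullback.snd f f ≫ f = (m₂ ≫ pullback.fst G.hom X.hom ≫ eA.hom) ≫ g := by
    simp only [Category.assoc]
    rw [hg, heA, pullback.condition, reassoc_of% hm₂, hx]
  let n : pullback f f ⟶ pullback f g :=
    pullback.lift (pullback.snd f f) (m₂ ≫ pullback.fst G.hom X.hom ≫ eA.hom) hc
  have hnf : n ≫ pullback.fst f g = pullback.snd f f := pullback.lift_fst _ _ _
  let j : pullback f g ⟶ pullback G.hom X.hom :=
    pullback.lift (pullback.snd f g ≫ eA.inv) (pullback.fst f g ≫ x) (by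
      simp only [Category.assoc]
      rw [hx, ← heA, Iso.inv_hom_id_assoc, pullback.condition])
  have hnj : n ≫ j = m₂ := by
    apply pullback.hom_ext
    · rw [Category.assoc]
      simp only [n, j]
      rw [pullback.lift_fst, pullback.lift_snd_assoc]
      simp
    · rw [Category.assoc, hm₂]
      simp only [n, j]
      rw [pullback.lift_snd, pullback.lift_fst_assoc]
  have : AlgebraicGeometry.IsSeparated j := by
    have : AlgebraicGeometry.IsSeparated (j ≫ terminal.from _) := inferInstance
    exact IsSeparated.of_comp j (terminal.from _)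
  have : IsClosedImmersion (n ≫ j) := by rw [hnj]; infer_instance
  have : IsClosedImmersion n := IsClosedImmersion.of_comp n j
  let N : Spec (CommRingCat.of (L ⊗[K] L)) ⟶ Spec (CommRingCat.of (L ⊗[K] A)) :=
    (pullbackSpecIso K L L).inv ≫ n ≫ (pullbackSpecIso K L A).hom
  have hN : N ≫ Spec.map (CommRingCat.ofHom Algebra.TensorProduct.includeLeftRingHom) =
      Spec.map (CommRingCat.ofHom (Algebra.TensorProduct.includeRight (R := K) (A := L) (B := L)).toRingHom) := by
    simp only [N, Category.assoc, pullbackSpecIso_hom_fst, hf]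
    rw [hnf]
    exact pullbackSpecIso_inv_snd K L L
  have hψ : CommRingCat.ofHom Algebra.TensorProduct.includeLeftRingHom ≫ Spec.preimage N =
      CommRingCat.ofHom (Algebra.TensorProduct.includeRight (R := K) (A := L) (B := L)).toRingHom := by
    apply Spec.map_injective
    rw [Spec.map_comp, Spec.map_preimage, hN]
  have : Subsingleton (PrimeSpectrum (L ⊗[K] L)) := by
    have hxui : UniversallyInjective x := inferInstance
    have hfui : UniversallyInjective f := hx ▸ MorphismProperty.comp_mem @UniversallyInjective _ _ hxui ‹UniversallyInjective X.hom›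
    have : UniversallyInjective (pullback.snd f f) := MorphismProperty.pullback_snd _ _ hfui
    have hinj : Function.Injective (pullback.snd f f) := (pullback.snd f f).injective
    have : Subsingleton ↥(pullback f f) := ⟨fun s t => hinj (Subsingleton.elim (α := PrimeSpectrum L) _ _)⟩
    exact ((pullbackSpecIso K L L).inv.homeomorph.toEquiv.subsingleton :
      Subsingleton ↥(Spec (CommRingCat.of (L ⊗[K] L))))
  exact pow_mem_range K L A p (Spec.preimage N).hom (surjective_preimage N)
    (fun l => ConcreteCategory.congr_hom hψ l) b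

/-- A finite connected group has a uniform Frobenius power splitting all its torsors. -/
theorem exists_iterateFrobenius {K : Type u} [Field K] (p : ℕ) [ExpChar K p]
    (G : Over (Spec (CommRingCat.of K))) [GrpObj G] [IsFinite G.hom] [ConnectedSpace G.left] :
    ∃ n : ℕ, ∀ (X : Over (Spec (CommRingCat.of K))) (a : AlgGrp.Action G X),
      NonAbH1.IsPseudoTorsorSch a → Nonempty X.left →
      ∃ s : Spec (CommRingCat.of K) ⟶ X.left,
        s ≫ X.hom = Spec.map (CommRingCat.ofHom (iterateFrobenius K p n)) := by
  have hG := universallyInjective_hom (G := G)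
  have : IsAffine G.left := isAffine_of_isAffineHom G.hom
  obtain ⟨φ, hφ⟩ := Spec.map_surjective (G.left.isoSpec.inv ≫ G.hom)
  algebraize [φ.hom]
  have : Module.Finite K Γ(G.left, ⊤) := by
    have h : IsFinite (G.left.isoSpec.inv ≫ G.hom) := inferInstance
    rw [← hφ, IsFinite.SpecMap_iff] at h
    exact h
  rcases ‹ExpChar K p› with _ | ⟨hp⟩
  · refine ⟨0, fun X a hps hne => ?_⟩
    obtain ⟨x⟩ := hne
    have := universallyInjective_torsor a hps
    obtain ⟨s, hs⟩ := exists_section x
    exact ⟨s, hs.trans (by rw [iterateFrobenius_zero]; exact (Spec.map_id _).symm)⟩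
  · have : Fact p.Prime := ⟨hp⟩
    refine ⟨Module.finrank K Γ(G.left, ⊤), fun X a hps hne => ?_⟩
    obtain ⟨x₀⟩ := hne
    have := universallyInjective_torsor a hps
    have : Subsingleton X.left :=
      ⟨fun s t => X.hom.injective (Subsingleton.elim (α := PrimeSpectrum K) _ _)⟩
    let x : Spec (CommRingCat.of (X.left.residueField x₀)) ⟶ X.left := X.left.fromSpecResidueField x₀
    have : IsPreimmersion x := inferInstanceAs (IsPreimmersion (X.left.fromSpecResidueField x₀))
    have : IsClosedImmersion x := IsClosedImmersion.of_isPreimmersion x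
      (by convert isClosed_univ; exact Set.range_eq_univ.2 fun y => ⟨IsLocalRing.closedPoint _, Subsingleton.elim _ _⟩)
    let _ : Algebra K (X.left.residueField x₀) := (Spec.preimage (x ≫ X.hom)).hom.toAlgebra
    have hx : x ≫ X.hom = Spec.map (CommRingCat.ofHom (algebraMap K (X.left.residueField x₀))) :=
      (Spec.map_preimage (x ≫ X.hom)).symm
    have key := pow_mem_range_of_torsor p Γ(G.left, ⊤) G.left.isoSpec
      (by rw [← Iso.eq_inv_comp]; exact hφ) a hps (X.left.residueField x₀) x hx
    choose c hc using key
    have hinj := (algebraMap K (X.left.residueField x₀)).injective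
    have : CharP (X.left.residueField x₀) p := charP_of_injective_ringHom hinj p
    let r : X.left.residueField x₀ →+* K :=
      { toFun := c
        map_one' := hinj (by rw [hc, one_pow, map_one])
        map_mul' := fun u v => hinj (by rw [hc, mul_pow, map_mul, hc, hc])
        map_zero' := hinj (by rw [hc, map_zero, zero_pow (pow_ne_zero _ hp.ne_zero)])
        map_add' := fun u v => hinj (by rw [hc, add_pow_char_pow, map_add, hc, hc]) }
    refine ⟨Spec.map (CommRingCat.ofHom r) ≫ x, ?_⟩
    rw [Category.assoc, hx, ← Spec.map_comp]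
    refine congrArg Spec.map (CommRingCat.hom_ext (RingHom.ext fun u => hinj ?_))
    change algebraMap K (X.left.residueField x₀) (c (algebraMap K _ u)) = _
    rw [hc]
    simp [iterateFrobenius_def, map_pow]

end Groth.Agent.H98ConnTors
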